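import Mathlib

/-! A counting lemma: there is no block system with even parameter having a large subsystem. -/

set_option autoImplicit false

namespace Cfsg.Agent.Marggraff

open Finset

theorem cast_descFactorial_succ (a k : ℕ) :
    ((a.descFactorial (k + 1) : ℕ) : ℤ) = ((a : ℤ) - k) * (a.descFactorial k : ℕ) := by
  rw [Nat.descFactorial_succ]
  rcases le_or_gt k a with h | h
  · push_cast [Nat.cast_sub h]
    ring
  · rw [Nat.descFactorial_eq_zero_iff_lt.2 h]
    simp

/-- alternating sum of products of falling factorials -/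
def altSum (v u t : ℕ) : ℤ :=
  ∑ j ∈ range (t + 1), (-1 : ℤ) ^ j * (v.descFactorial j : ℕ) * (u.descFactorial (t - j) : ℕ)

theorem altSum_zero (u t : ℕ) : altSum 0 u t = (u.descFactorial t : ℕ) := by
  rw [altSum, Finset.sum_eq_single 0]
  · simp
  · intro j _ hj
    obtain ⟨j, rfl⟩ := Nat.exists_eq_succ_of_ne_zero hj
    simp [Nat.zero_descFactorial_succ]
  · intro h; exact absurd (mem_range.2 (by omega)) h

theorem mul_altSum (v u t : ℕ) (ht : Even t) :
    ((v : ℤ) + u - t) * altSum v u t =
      (u.descFactorial (t + 1) : ℕ) + (v.descFactorial (t + 1) : ℕ) := by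
  let F : ℕ → ℤ := fun j => (-1 : ℤ) ^ j * (v.descFactorial j : ℕ) * (u.descFactorial (t + 1 - j) : ℕ)
  have key : ∀ j ∈ range (t + 1), ((v : ℤ) + u - t) *
      ((-1 : ℤ) ^ j * (v.descFactorial j : ℕ) * (u.descFactorial (t - j) : ℕ)) = F j - F (j + 1) := by
    intro j hj
    have hjt : j ≤ t := Nat.lt_succ_iff.1 (mem_range.1 hj)
    simp only [F]
    rw [show t + 1 - j = t - j + 1 by omega, show t + 1 - (j + 1) = t - j by omega,
      cast_descFactorial_succ u (t - j), cast_descFactorial_succ v j, Nat.cast_sub hjt, pow_succ]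
    ring
  rw [altSum, mul_sum, sum_congr rfl key, sum_range_sub']
  simp only [F, pow_zero, Nat.descFactorial_zero, Nat.cast_one, Nat.sub_zero, Nat.sub_self]
  rw [Odd.neg_one_pow ht.add_one]
  ring

variable {α : Type*} [DecidableEq α]

/-- weight of a set relative to `H` -/
def wt (H : Finset α) (t : ℕ) (T : Finset α) : ℤ :=
  (-1 : ℤ) ^ (T \ H).card * ((T \ H).card.factorial : ℕ) * ((t - (T \ H).card).factorial : ℕ)

theorem sum_wt (A H : Finset α) (t : ℕ) :
    ∑ T ∈ powersetCard t A, wt H t T = altSum (A \ H).card (A ∩ H).card t := by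
  rw [← sum_fiberwise_of_maps_to (t := range (t + 1)) (g := fun T => (T \ H).card)]
  swap
  · intro T hT
    rw [mem_range]
    have h1 : (T \ H).card ≤ T.card := card_le_card sdiff_subset
    have h2 := (mem_powersetCard.1 hT).2
    omega
  rw [altSum]
  refine sum_congr rfl fun j hj => ?_
  have hjt : j ≤ t := Nat.lt_succ_iff.1 (mem_range.1 hj)
  have hw : ∀ T ∈ (powersetCard t A).filter (fun T => (T \ H).card = j),
      wt H t T = (-1 : ℤ) ^ j * (j.factorial : ℕ) * ((t - j).factorial : ℕ) := by
    intro T hT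
    rw [wt, (mem_filter.1 hT).2]
  rw [sum_congr rfl hw, sum_const, nsmul_eq_mul]
  have hc : ((powersetCard t A).filter (fun T => (T \ H).card = j)).card =
      (A \ H).card.choose j * (A ∩ H).card.choose (t - j) := by
    rw [← card_powersetCard, ← card_powersetCard, ← card_product]
    refine card_bij' (fun T _ => (T \ H, T ∩ H)) (fun P _ => P.1 ∪ P.2) ?_ ?_ ?_ ?_
    · intro T hT
      obtain ⟨hT, hj'⟩ := mem_filter.1 hT
      obtain ⟨hTA, hTc⟩ := mem_powersetCard.1 hT
      have h3 := card_sdiff_add_card_inter T H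
      refine mem_product.2 ⟨mem_powersetCard.2 ⟨sdiff_subset_sdiff hTA le_rfl, hj'⟩,
        mem_powersetCard.2 ⟨inter_subset_inter_right hTA, ?_⟩⟩
      simp only
      omega
    · intro P hP
      obtain ⟨h1, h2⟩ := mem_product.1 hP
      obtain ⟨h1, h1c⟩ := mem_powersetCard.1 h1
      obtain ⟨h2, h2c⟩ := mem_powersetCard.1 h2
      have hd : Disjoint P.1 P.2 := disjoint_left.2 fun x hx hx' =>
        (mem_sdiff.1 (h1 hx)).2 (mem_inter.1 (h2 hx')).2
      refine mem_filter.2 ⟨mem_powersetCard.2 ⟨union_subset (h1.trans sdiff_subset) (h2.trans inter_subset_left),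
        by rw [card_union_of_disjoint hd]; omega⟩, ?_⟩
      have : (P.1 ∪ P.2) \ H = P.1 := by
        ext x
        simp only [mem_sdiff, mem_union]
        constructor
        · rintro ⟨h | h, hx⟩
          · exact h
          · exact absurd (mem_inter.1 (h2 h)).2 hx
        · exact fun h => ⟨Or.inl h, (mem_sdiff.1 (h1 h)).2⟩
      rw [this]
      exact h1c
    · intro T _
      exact sdiff_union_inter T H
    · intro P hP
      obtain ⟨h1, h2⟩ := mem_product.1 hP
      obtain ⟨h1, _⟩ := mem_powersetCard.1 h1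
      obtain ⟨h2, _⟩ := mem_powersetCard.1 h2
      refine Prod.ext ?_ ?_
      · ext x
        simp only [mem_sdiff, mem_union]
        constructor
        · rintro ⟨h | h, hx⟩
          · exact h
          · exact absurd (mem_inter.1 (h2 h)).2 hx
        · exact fun h => ⟨Or.inl h, (mem_sdiff.1 (h1 h)).2⟩
      · ext x
        simp only [mem_inter, mem_union]
        constructor
        · rintro ⟨h | h, hx⟩
          · exact absurd hx (mem_sdiff.1 (h1 h)).2
          · exact h
        · exact fun h => ⟨Or.inr h, (mem_inter.1 (h2 h)).2⟩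
  rw [hc, Nat.descFactorial_eq_factorial_mul_choose, Nat.descFactorial_eq_factorial_mul_choose]
  push_cast
  ring

/-- No system of blocks with even parameter `t` has a subsystem containing at least half of the points. -/
theorem no_large_subsystem (U H : Finset α) (hH : H ⊆ U) (t : ℕ) (ht : Even t) (ht0 : 0 < t)
    (hth : t ≤ H.card) (hm : (U \ H).card ≤ H.card) (hm0 : 0 < (U \ H).card)
    (cl : Finset α → Finset α)
    (h1 : ∀ T ∈ powersetCard t U, T ⊆ cl T ∧ cl T ⊆ U ∧ t < (cl T).card)
    (h2 : ∀ T ∈ powersetCard t U, ∀ T' ∈ powersetCard t (cl T), cl T' = cl T)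
    (h3 : ∀ T ∈ powersetCard t U, t ≤ (cl T ∩ H).card → cl T ⊆ H) : False := by
  classical
  have hUH : U ∩ H = H := inter_eq_right.2 hH
  have hHd : H \ H = (∅ : Finset α) := Finset.sdiff_self H
  -- the whole sum
  have hU : ∑ T ∈ powersetCard t U, wt H t T = altSum (U \ H).card H.card t := by
    rw [sum_wt, hUH]
  have hHs : ∑ T ∈ powersetCard t H, wt H t T = (H.card.descFactorial t : ℕ) := by
    rw [sum_wt, hHd, inter_self, card_empty, altSum_zero]
  set R := powersetCard t U \ powersetCard t H with hR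
  have hsplit : ∑ T ∈ R, wt H t T + ∑ T ∈ powersetCard t H, wt H t T =
      ∑ T ∈ powersetCard t U, wt H t T := sum_sdiff (powersetCard_mono hH)
  have hpos : 0 ≤ ∑ T ∈ R, wt H t T := by
    rw [← sum_fiberwise_of_maps_to (t := R.image cl) (g := cl) (fun T hT => mem_image_of_mem cl hT)]
    refine sum_nonneg fun L hL => ?_
    obtain ⟨T, hT, rfl⟩ := mem_image.1 hL
    obtain ⟨hTU, hTH⟩ := mem_sdiff.1 hT
    obtain ⟨hsub, hLU, hLc⟩ := h1 T hTU
    have hu : (cl T ∩ H).card < t := by
      by_contra hcon
      exact hTH (mem_powersetCard.2 ⟨hsub.trans (h3 T hTU (not_lt.1 hcon)), (mem_powersetCard.1 hTU).2⟩)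
    have hfib : R.filter (fun T' => cl T' = cl T) = powersetCard t (cl T) := by
      ext T'
      simp only [mem_filter, R, mem_sdiff]
      constructor
      · rintro ⟨⟨hU', -⟩, he⟩
        exact mem_powersetCard.2 ⟨he ▸ (h1 T' hU').1, (mem_powersetCard.1 hU').2⟩
      · intro h'
        refine ⟨⟨powersetCard_mono hLU h', fun hH' => ?_⟩, h2 T hTU T' h'⟩
        obtain ⟨a1, a2⟩ := mem_powersetCard.1 h'
        have : T'.card ≤ (cl T ∩ H).card :=
          card_le_card (subset_inter a1 (mem_powersetCard.1 hH').1)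
        omega
    rw [hfib, sum_wt]
    have hid := mul_altSum (cl T \ H).card (cl T ∩ H).card t ht
    have hcard := card_sdiff_add_card_inter (cl T) H
    rw [Nat.descFactorial_eq_zero_iff_lt.2 (show (cl T ∩ H).card < t + 1 by omega), Nat.cast_zero,
      zero_add] at hid
    by_contra hneg
    have h4 : ((cl T \ H).card : ℤ) + (cl T ∩ H).card - t > 0 := by omega
    have h5 := mul_neg_of_pos_of_neg h4 (not_le.1 hneg)
    rw [hid] at h5
    have h6 : (0 : ℤ) ≤ ((cl T \ H).card.descFactorial (t + 1) : ℕ) := Int.natCast_nonneg _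
    omega
  rw [hHs, hU] at hsplit
  have hid := mul_altSum (U \ H).card H.card t ht
  set m := (U \ H).card
  set h := H.card
  rw [cast_descFactorial_succ h t] at hid
  have hhpos : 0 < h.descFactorial t := Nat.descFactorial_pos.2 hth
  have hlt : ((m.descFactorial (t + 1) : ℕ) : ℤ) < (m : ℤ) * (h.descFactorial t : ℕ) := by
    rw [cast_descFactorial_succ]
    rcases le_or_gt t m with hc | hc
    · have hmono : ((m.descFactorial t : ℕ) : ℤ) ≤ (h.descFactorial t : ℕ) :=
        Int.ofNat_le.2 (Nat.descFactorial_le _ hm)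
      have hm' : (0 : ℤ) ≤ (m : ℤ) - t := by omega
      have e1 : ((m : ℤ) - t) * (m.descFactorial t : ℕ) ≤ ((m : ℤ) - t) * (h.descFactorial t : ℕ) :=
        mul_le_mul_of_nonneg_left hmono hm'
      have e2 : ((m : ℤ) - t) * (h.descFactorial t : ℕ) < (m : ℤ) * (h.descFactorial t : ℕ) :=
        mul_lt_mul_of_pos_right (by omega) (by exact_mod_cast hhpos)
      linarith
    · rw [Nat.descFactorial_eq_zero_iff_lt.2 hc]
      have : (0 : ℤ) < (m : ℤ) * (h.descFactorial t : ℕ) :=
        mul_pos (by omega) (by exact_mod_cast hhpos)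
      simpa using this
  have hn : (0 : ℤ) ≤ (m : ℤ) + h - t := by omega
  nlinarith [mul_le_mul_of_nonneg_left
    (show ((h.descFactorial t : ℕ) : ℤ) ≤ altSum m h t by linarith) hn]

end Cfsg.Agent.Marggraff
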