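import Cfsg.Agent.Lib.Marggraff.Count

/-! Marggraff's theorem: a primitive group with a Jordan set of fewer than half of the points is
alternating or symmetric. -/

set_option autoImplicit false

namespace Cfsg.Agent.Marggraff

open Finset MulAction
open scoped Pointwise

variable (G : Type*) [Group G] {Ω : Type*} [MulAction G Ω]

/-- every injection defined on `k` points is induced by the group -/
def Tr (k : ℕ) : Prop :=
  ∀ (X : Finset Ω) (f : Ω → Ω), X.card = k → Set.InjOn f ↑X → ∃ g : G, ∀ x ∈ X, g • x = f x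

variable {G}

theorem tr_move {k : ℕ} (hT : Tr G (Ω := Ω) k) [DecidableEq Ω] (X Y : Finset Ω) (hX : X.card = k)
    (hY : Y.card = k) : ∃ g : G, ∀ x ∈ X, g • x ∈ Y := by
  let e := Finset.equivOfCardEq (hX.trans hY.symm)
  have hinj : Set.InjOn (fun x => if h : x ∈ X then (e ⟨x, h⟩ : Ω) else x) ↑X := by
    intro x hx y hy hxy
    simp only [mem_coe] at hx hy
    simp only [dif_pos hx, dif_pos hy] at hxy
    exact congrArg Subtype.val (e.injective (Subtype.ext hxy))
  obtain ⟨g, hg⟩ := hT X _ hX hinj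
  refine ⟨g, fun x hx => ?_⟩
  rw [hg x hx, dif_pos hx]
  exact (e ⟨x, hx⟩).2

variable [Fintype Ω] [DecidableEq Ω]

/-- the points outside `H` form a Jordan set -/
structure Config (G : Type*) [Group G] {Ω : Type*} [MulAction G Ω] [Fintype Ω] (H : Finset Ω) : Prop where
  two : H.card + 2 ≤ Fintype.card Ω
  half : Fintype.card Ω < 2 * H.card
  jordan : ∀ a b : Ω, a ∉ H → b ∉ H → ∃ g : G, (∀ y ∈ H, g • y = y) ∧ g • a = b

variable {H : Finset Ω}

/-- transport of the Jordan group -/
theorem Config.translate (hc : Config G H) (g : G) {a b : Ω} (ha : g⁻¹ • a ∉ H) (hb : g⁻¹ • b ∉ H) :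
    ∃ j : G, (∀ y, g⁻¹ • y ∈ H → j • y = y) ∧ j • a = b := by
  obtain ⟨c, hc1, hc2⟩ := hc.jordan _ _ ha hb
  refine ⟨g * c * g⁻¹, fun y hy => ?_, ?_⟩
  · rw [mul_smul, mul_smul, hc1 _ hy, smul_inv_smul]
  · rw [mul_smul, mul_smul, hc2, smul_inv_smul]

/-- separation of a point from a set by a translate of `H` -/
theorem separation [Finite G] (hc : Config G H) {t : ℕ} (ht2 : 2 ≤ t) (hth : t ≤ H.card)
    (hT : Tr G (Ω := Ω) t) (X : Finset Ω) (hX : X.card = t) (y : Ω) (hy : y ∉ X) :
    ∃ g : G, (∀ x ∈ X, g⁻¹ • x ∈ H) ∧ g⁻¹ • y ∉ H := by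
  classical
  by_contra hcon
  push_neg at hcon
  haveI := Fintype.ofFinite G
  let cl : Finset Ω → Finset Ω := fun Z =>
    Finset.univ.filter fun z => ∀ g : G, (∀ x ∈ Z, g⁻¹ • x ∈ H) → g⁻¹ • z ∈ H
  have hmem : ∀ Z z, z ∈ cl Z ↔ ∀ g : G, (∀ x ∈ Z, g⁻¹ • x ∈ H) → g⁻¹ • z ∈ H := fun Z z => by simp [cl]
  have hsub : ∀ Z, Z ⊆ cl Z := fun Z z hz => (hmem Z z).2 fun g hg => hg z hz
  -- every set of `t` points has a closure with more than `t` points
  have hbig : ∀ Z : Finset Ω, Z.card = t → t < (cl Z).card := by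
    intro Z hZ
    obtain ⟨g, hg⟩ := tr_move hT X Z hX hZ
    have himg : X.image (g • ·) = Z := Finset.eq_of_subset_of_card_le
      (fun z hz => by obtain ⟨x, hx, rfl⟩ := mem_image.1 hz; exact hg x hx)
      (by rw [card_image_of_injective _ (MulAction.injective g), hX, hZ])
    have h1 : g • y ∉ Z := by
      rw [← himg, mem_image]
      rintro ⟨x, hx, hxy⟩
      exact hy (MulAction.injective g hxy ▸ hx)
    have h2 : g • y ∈ cl Z := (hmem Z _).2 fun k hk => by
      have := hcon (g⁻¹ * k) (fun x hx => by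
        rw [mul_inv_rev, inv_inv, mul_smul]; exact hk _ (hg x hx))
      rwa [mul_inv_rev, inv_inv, mul_smul] at this
    calc t < (insert (g • y) Z).card := by rw [card_insert_of_notMem h1, hZ]; omega
      _ ≤ (cl Z).card := card_le_card (insert_subset h2 (hsub Z))
  -- a set of `t` points of a closure has the same closure
  have hcl : ∀ Z Z' : Finset Ω, Z.card = t → Z'.card = t → Z' ⊆ cl Z → cl Z' = cl Z := by
    intro Z Z' hZ hZ' hs
    let A : Finset Ω → Finset G := fun W => Finset.univ.filter fun g => ∀ x ∈ W, g⁻¹ • x ∈ H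
    have hle : ∀ W W' : Finset Ω, W.card = t → W'.card = t → (A W').card ≤ (A W).card := by
      intro W W' hW hW'
      obtain ⟨g₀, hg₀⟩ := tr_move hT W W' hW hW'
      refine card_le_card_of_injOn (fun g => g₀⁻¹ * g) (fun g hg => ?_)
        fun a _ b _ h => mul_left_cancel h
      simp only [A, mem_coe, mem_filter, mem_univ, true_and] at hg ⊢
      intro x hx
      rw [mul_inv_rev, inv_inv, mul_smul]
      exact hg _ (hg₀ x hx)
    have h1 : A Z ⊆ A Z' := fun g hg => by
      simp only [A, mem_filter, mem_univ, true_and] at hg ⊢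
      exact fun x hx => (hmem Z x).1 (hs hx) g hg
    have h2 : A Z = A Z' := eq_of_subset_of_card_le h1 (hle Z Z' hZ hZ')
    have h3 : ∀ g : G, (∀ x ∈ Z', g⁻¹ • x ∈ H) ↔ (∀ x ∈ Z, g⁻¹ • x ∈ H) := fun g => by
      have := Finset.ext_iff.1 h2 g
      simp only [A, mem_filter, mem_univ, true_and] at this
      exact this.symm
    ext z
    simp only [hmem, h3]
  have hclH : ∀ Z : Finset Ω, Z.card = t → t ≤ (cl Z ∩ H).card → cl Z ⊆ H := by
    intro Z hZ hi
    obtain ⟨W, hW, hWc⟩ := exists_subset_card_eq hi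
    intro z hz
    rw [← hcl Z W hZ hWc (hW.trans inter_subset_left)] at hz
    have := (hmem W z).1 hz 1 fun x hx => by
      simpa using (mem_inter.1 (hW hx)).2
    simpa using this
  have hmcard : (Finset.univ \ H).card = Fintype.card Ω - H.card := by
    rw [card_sdiff_of_subset (subset_univ H), card_univ]
  have := hc.two
  have := hc.half
  rcases Nat.even_or_odd t with hev | hod
  · refine no_large_subsystem Finset.univ H (subset_univ H) t hev (by omega) hth (by omega) (by omega) cl
      (fun T hT' => ⟨hsub T, subset_univ _, hbig T (mem_powersetCard.1 hT').2⟩)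
      (fun T hT' T' hT'' => hcl T T' (mem_powersetCard.1 hT').2 (mem_powersetCard.1 hT'').2
        (mem_powersetCard.1 hT'').1)
      (fun T hT' h => hclH T (mem_powersetCard.1 hT').2 h)
  · obtain ⟨a, ha⟩ : H.Nonempty := card_pos.1 (by omega)
    have hins : ∀ T ∈ powersetCard (t - 1) (Finset.univ.erase a), (insert a T).card = t := by
      intro T hT'
      obtain ⟨h1, h2⟩ := mem_powersetCard.1 hT'
      rw [card_insert_of_notMem fun h => (mem_erase.1 (h1 h)).1 rfl, h2]
      omega
    have hd : Finset.univ.erase a \ H.erase a = Finset.univ \ H := by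
      ext z
      simp only [mem_sdiff, mem_erase, mem_univ, and_true, true_and, not_and]
      exact ⟨fun h => h.2 h.1, fun h => ⟨fun e => h (e ▸ ha), fun _ => h⟩⟩
    refine no_large_subsystem (Finset.univ.erase a) (H.erase a) (erase_subset_erase a (subset_univ H))
      (t - 1) (by obtain ⟨q, rfl⟩ := hod; exact ⟨q, by omega⟩) (by omega)
      (by rw [card_erase_of_mem ha]; omega) (by rw [hd, hmcard, card_erase_of_mem ha]; omega)
      (by rw [hd, hmcard]; omega) (fun T => (cl (insert a T)).erase a) ?_ ?_ ?_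
    · intro T hT'
      refine ⟨fun z hz => mem_erase.2 ⟨(mem_erase.1 ((mem_powersetCard.1 hT').1 hz)).1,
        hsub _ (mem_insert_of_mem hz)⟩, erase_subset_erase a (subset_univ _), ?_⟩
      have := hbig _ (hins T hT')
      rw [card_erase_of_mem (hsub _ (mem_insert_self a T))]
      omega
    · intro T hT' T' hT''
      obtain ⟨h1, h2⟩ := mem_powersetCard.1 hT''
      have hT''' : T' ∈ powersetCard (t - 1) (Finset.univ.erase a) :=
        mem_powersetCard.2 ⟨h1.trans (erase_subset_erase a (subset_univ _)), h2⟩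
      rw [hcl _ _ (hins T hT') (hins T' hT''')
        (insert_subset (hsub _ (mem_insert_self a T)) (h1.trans (erase_subset _ _)))]
    · intro T hT' h z hz
      have h' : t ≤ (cl (insert a T) ∩ H).card := by
        have e : (cl (insert a T)).erase a ∩ H.erase a = (cl (insert a T) ∩ H).erase a := by
          ext z
          simp only [mem_inter, mem_erase]
          tauto
        rw [e, card_erase_of_mem (mem_inter.2 ⟨hsub _ (mem_insert_self a T), ha⟩)] at h
        have : 0 < (cl (insert a T) ∩ H).card :=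
          card_pos.2 ⟨a, mem_inter.2 ⟨hsub _ (mem_insert_self a T), ha⟩⟩
        omega
      exact mem_erase.2 ⟨(mem_erase.1 hz).1, hclH _ (hins T hT') h' (mem_erase.1 hz).2⟩

omit [Fintype Ω] [DecidableEq Ω] in
/-- two permutations whose supports share exactly one point give a 3-cycle -/
theorem three_cycle {β : Type*} [Fintype β] [DecidableEq β] (h k : Equiv.Perm β) (a : β)
    (ha : h a ≠ a) (hka : k a ≠ a) (hone : ∀ x, h x ≠ x → k x ≠ x → x = a) :
    (h * k * h⁻¹ * k⁻¹).IsThreeCycle := by
  set c := h * k * h⁻¹ * k⁻¹ with hcdef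
  have hkfix : ∀ x, h x ≠ x → x ≠ a → k x = x := fun x h1 h2 => by
    by_contra h3; exact h2 (hone x h1 h3)
  have hhfix : ∀ x, k x ≠ x → x ≠ a → h x = x := fun x h1 h2 => by
    by_contra h3; exact h2 (hone x h3 h1)
  have hsupp : c.support ⊆ {a, h a, k a} := by
    intro x hx
    rw [Equiv.Perm.mem_support] at hx
    simp only [Finset.mem_insert, Finset.mem_singleton]
    by_contra hcon
    push_neg at hcon
    obtain ⟨h1, h2, h3⟩ := hcon
    apply hx
    simp only [hcdef, Equiv.Perm.mul_apply]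
    by_cases hk : k x = x
    · have e1 : k⁻¹ x = x := Equiv.Perm.inv_eq_iff_eq.2 hk.symm
      rw [e1]
      by_cases hh : h x = x
      · rw [Equiv.Perm.inv_eq_iff_eq.2 hh.symm, hk, hh]
      · have e2 : h (h⁻¹ x) = x := h.apply_symm_apply x
        have ny : h⁻¹ x ≠ a := fun e => h2 (by rw [← e, e2])
        have my : h (h⁻¹ x) ≠ h⁻¹ x := fun e => hh (by
          conv_lhs => rw [← e2, e, e2])
        rw [hkfix _ my ny, e2]
    · have e2 : k (k⁻¹ x) = x := k.apply_symm_apply x
      have hhx : h x = x := hhfix x hk h1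
      have ny : k⁻¹ x ≠ a := fun e => h3 (by rw [← e, e2])
      have my : k (k⁻¹ x) ≠ k⁻¹ x := fun e => hk (by
        conv_lhs => rw [← e2, e, e2])
      have e3 := hhfix _ my ny
      rw [Equiv.Perm.inv_eq_iff_eq.2 e3.symm, e2, hhx]
  have hne : c ≠ 1 := by
    intro hc1
    apply ha
    have hw : k⁻¹ a ≠ a := fun e => hka (by
      have := k.apply_symm_apply a
      rwa [show k.symm a = a from e] at this)
    have hmw : k (k⁻¹ a) ≠ k⁻¹ a := fun e => hw (by
      rw [show k (k⁻¹ a) = a from k.apply_symm_apply a] at e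
      exact e.symm)
    have e3 := hhfix _ hmw hw
    have := congrArg (fun p : Equiv.Perm β => p a) hc1
    simp only [hcdef, Equiv.Perm.mul_apply, Equiv.Perm.one_apply] at this
    rwa [Equiv.Perm.inv_eq_iff_eq.2 e3.symm, show k (k⁻¹ a) = a from k.apply_symm_apply a] at this
  have hsign : Equiv.Perm.sign c = 1 := by
    simp only [hcdef, map_mul, map_inv]
    rw [mul_comm (Equiv.Perm.sign h) (Equiv.Perm.sign k)]
    group
  refine card_support_eq_three_iff.1 ?_
  have h3 : c.support.card ≤ 3 := (card_le_card hsupp).trans Finset.card_le_three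
  have h0 : c.support.card ≠ 0 := fun e => hne (Equiv.Perm.card_support_eq_zero.1 e)
  have h1 : c.support.card ≠ 1 := Equiv.Perm.card_support_ne_one c
  have h2 : c.support.card ≠ 2 := fun e => by
    have := (Equiv.Perm.card_support_eq_two.1 e).sign_eq
    rw [hsign] at this
    exact absurd this (by decide)
  omega

omit [Fintype Ω] in
/-- the inductive step: `k+1`-fold transitivity gives `k+2`-fold -/
theorem tr_step [Finite Ω] {k : ℕ} (hT1 : Tr G (Ω := Ω) (k + 1))
    (hstab : ∀ (B : Finset Ω) (c u v : Ω), B.card = k → c ∉ B → u ∉ B → v ∉ B → u ≠ c → v ≠ c →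
      ∃ g : G, (∀ x ∈ B, g • x = x) ∧ g • c = c ∧ g • u = v) :
    Tr G (Ω := Ω) (k + 2) := by
  intro X f hX hf
  obtain ⟨u, hu⟩ : X.Nonempty := card_pos.1 (by omega)
  have hX1 : (X.erase u).card = k + 1 := by rw [card_erase_of_mem hu]; omega
  obtain ⟨g1, hg1⟩ := hT1 _ f hX1 (hf.mono (by simp))
  obtain ⟨c, hc⟩ : (X.erase u).Nonempty := card_pos.1 (by omega)
  have hcX := mem_of_mem_erase hc
  set B := ((X.erase u).erase c).image f with hB
  have hBc : B.card = k := by
    rw [hB, card_image_of_injOn (hf.mono (by intro z; simp +contextual)), card_erase_of_mem hc]; omega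
  have hout : ∀ z ∈ X, z = u ∨ z = c → f z ∉ B := fun z hz hzc hm => by
    obtain ⟨w, hw, hwz⟩ := mem_image.1 hm
    have := hf (mem_coe.2 (mem_of_mem_erase (mem_of_mem_erase hw))) (mem_coe.2 hz) hwz
    subst this
    rcases hzc with rfl | rfl
    · exact (mem_erase.1 (mem_of_mem_erase hw)).1 rfl
    · exact (mem_erase.1 hw).1 rfl
  have hg1u : g1 • u ∉ B := fun hm => by
    obtain ⟨w, hw, hwz⟩ := mem_image.1 hm
    rw [← hg1 w (mem_of_mem_erase hw)] at hwz
    exact (mem_erase.1 (mem_of_mem_erase hw)).1 (MulAction.injective g1 hwz)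
  obtain ⟨g2, h21, h22, h23⟩ := hstab B (f c) (g1 • u) (f u) hBc (hout c hcX (Or.inr rfl)) hg1u
    (hout u hu (Or.inl rfl))
    (fun e => by rw [← hg1 c hc] at e; exact (mem_erase.1 hc).1 (MulAction.injective g1 e).symm)
    (fun e => (mem_erase.1 hc).1 (hf (mem_coe.2 hu) (mem_coe.2 hcX) e).symm)
  refine ⟨g2 * g1, fun x hx => ?_⟩
  rw [mul_smul]
  by_cases hxu : x = u
  · subst hxu; exact h23
  · rw [hg1 x (mem_erase.2 ⟨hxu, hx⟩)]
    by_cases hxc : x = c
    · subst hxc; exact h22
    · exact h21 _ (mem_image_of_mem f (mem_erase.2 ⟨hxc, mem_erase.2 ⟨hxu, hx⟩⟩))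

end Cfsg.Agent.Marggraff
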