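import Cfsg.Agent.Lib.Marggraff.Main

/-! Point stabilisers stay primitive; Marggraff's theorem. -/

set_option autoImplicit false

namespace Cfsg.Agent.Marggraff

open Finset MulAction SubMulAction
open scoped Pointwise

variable {G : Type*} [Group G] [Finite G] {Ω : Type*} [MulAction G Ω] [Fintype Ω] [DecidableEq Ω]
  {H : Finset Ω}

/-- fixing `B` pointwise -/
theorem fix_transitive {k : ℕ} (hT : Tr G (Ω := Ω) (k + 1)) (B : Finset Ω) (hB : B.card = k) (u v : Ω)
    (hu : u ∉ B) (hv : v ∉ B) : ∃ g : G, (∀ x ∈ B, g • x = x) ∧ g • u = v := by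
  classical
  obtain ⟨g, hg⟩ := hT (insert u B) (fun x => if x = u then v else x)
    (by rw [card_insert_of_notMem hu, hB])
    (by
      intro x hx y hy hxy
      simp only [coe_insert, Set.mem_insert_iff, mem_coe] at hx hy
      simp only at hxy
      split_ifs at hxy with h1 h2 h2
      · rw [h1, h2]
      · rcases hy with hy | hy
        · exact absurd hy h2
        · exact absurd (hxy ▸ hy) hv
      · rcases hx with hx | hx
        · exact absurd hx h1
        · exact absurd (hxy ▸ hx) hv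
      · exact hxy)
  refine ⟨g, fun x hx => ?_, by simpa using hg u (mem_insert_self u B)⟩
  have := hg x (mem_insert_of_mem hx)
  rwa [if_neg (fun e : x = u => hu (e ▸ hx))] at this

omit [Finite G] in
/-- transitivity on fewer points -/
theorem tr_pred {k : ℕ} (hT1 : Tr G (Ω := Ω) (k + 1)) (hk : k < Fintype.card Ω) : Tr G (Ω := Ω) k := by
  classical
  intro X f hX hf
  obtain ⟨e, he⟩ : (univ \ X).Nonempty := card_pos.1 (by
    rw [card_sdiff_of_subset (subset_univ X), card_univ]; omega)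
  obtain ⟨e', he'⟩ : (univ \ X.image f).Nonempty := card_pos.1 (by
    rw [card_sdiff_of_subset (subset_univ _), card_univ, card_image_of_injOn hf]; omega)
  have heX : e ∉ X := (mem_sdiff.1 he).2
  obtain ⟨g, hg⟩ := hT1 (insert e X) (fun x => if x = e then e' else f x)
    (by rw [card_insert_of_notMem heX, hX])
    (by
      intro x hx y hy hxy
      simp only [coe_insert, Set.mem_insert_iff, mem_coe] at hx hy
      simp only at hxy
      split_ifs at hxy with h1 h2 h2
      · rw [h1, h2]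
      · exact absurd (mem_image.2 ⟨y, hy.resolve_left h2, hxy.symm⟩) (mem_sdiff.1 he').2
      · exact absurd (mem_image.2 ⟨x, hx.resolve_left h1, hxy⟩) (mem_sdiff.1 he').2
      · exact hf (hx.resolve_left h1) (hy.resolve_left h2) hxy)
  refine ⟨g, fun x hx => ?_⟩
  rw [hg x (mem_insert_of_mem hx), if_neg (fun e'' : x = e => heX (e'' ▸ hx))]

/-- fixing a set with one point less -/
theorem fix_transitive₂ {k : ℕ} (hT : Tr G (Ω := Ω) (k + 1)) (B : Finset Ω) (hB : B.card + 1 = k)
    (u v u' v' : Ω) (hu : u ∉ B) (hv : v ∉ B) (hu' : u' ∉ B) (hv' : v' ∉ B) (huv : u ≠ v) (huv' : u' ≠ v') :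
    ∃ g : G, (∀ x ∈ B, g • x = x) ∧ g • u = u' ∧ g • v = v' := by
  classical
  obtain ⟨g, hg⟩ := hT (insert u (insert v B)) (fun x => if x = u then u' else if x = v then v' else x)
    (by
      rw [card_insert_of_notMem (fun h => (mem_insert.1 h).elim huv hu), card_insert_of_notMem hv]
      omega)
    (by
      intro x hx y hy hxy
      simp only [coe_insert, Set.mem_insert_iff, mem_coe] at hx hy
      simp only at hxy
      split_ifs at hxy with h1 h2 h3 h4 h5 h6 h7 h8
      all_goals first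
        | exact hxy
        | (subst_vars; rfl)
        | exact absurd hxy huv'
        | exact absurd hxy.symm huv'
        | (exfalso; rcases hx with hx | hx | hx <;> rcases hy with hy | hy | hy <;> subst_vars <;>
            first | contradiction | tauto))
  refine ⟨g, fun x hx => ?_, by simpa using hg u (mem_insert_self u _), ?_⟩
  · have := hg x (mem_insert_of_mem (mem_insert_of_mem hx))
    rwa [if_neg (fun e : x = u => hu (e ▸ hx)), if_neg (fun e : x = v => hv (e ▸ hx))] at this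
  · have := hg v (mem_insert_of_mem (mem_insert_self v B))
    rwa [if_neg (Ne.symm huv), if_pos rfl] at this

/-- there is no block system for the pointwise stabiliser of a set of `k` points -/
theorem no_block (hc : Config G H) {k : ℕ} (hk1 : 1 ≤ k) (hkh : k + 1 ≤ H.card)
    (hT1 : Tr G (Ω := Ω) (k + 1)) (B : Finset Ω) (hB : B.card = k) (C : Finset Ω)
    (hCB : ∀ z ∈ C, z ∉ B) (hC2 : 2 ≤ C.card) (hCN : 2 * C.card + k ≤ Fintype.card Ω)
    (hblock : ∀ g : G, (∀ x ∈ B, g • x = x) → (∃ z ∈ C, g • z ∈ C) → ∀ z, g • z ∈ C ↔ z ∈ C) : False := by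
  classical
  let Fix : G → Prop := fun g => ∀ x ∈ B, g • x = x
  have fix_inv : ∀ g, Fix g → Fix g⁻¹ := fun g hg x hx => by rw [inv_smul_eq_iff]; exact (hg x hx).symm
  have fix_mul : ∀ g g', Fix g → Fix g' → Fix (g * g') := fun g g' hg hg' x hx => by
    rw [mul_smul, hg' x hx, hg x hx]
  have fix_out : ∀ g z, Fix g → z ∉ B → g • z ∉ B := fun g z hg hz h =>
    hz (by have := fix_inv g hg _ h; rw [inv_smul_smul] at this; exact this ▸ h)
  let Same : Ω → Ω → Prop := fun y z => ∃ g, Fix g ∧ g⁻¹ • y ∈ C ∧ g⁻¹ • z ∈ C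
  have hblock' : ∀ g g', Fix g → Fix g' → ∀ y, g⁻¹ • y ∈ C → g'⁻¹ • y ∈ C → ∀ z, g⁻¹ • z ∈ C → g'⁻¹ • z ∈ C := by
    intro g g' hg hg' y hy hy' z hz
    have h := hblock (g'⁻¹ * g) (fix_mul _ _ (fix_inv _ hg') hg)
      ⟨g⁻¹ • y, hy, by rw [mul_smul, smul_inv_smul]; exact hy'⟩ (g⁻¹ • z)
    rw [mul_smul, smul_inv_smul] at h
    exact h.2 hz
  have same_trans : ∀ x y z, Same x y → Same x z → Same y z := by
    rintro x y z ⟨g, hg, h1, h2⟩ ⟨g', hg', h3, h4⟩
    exact ⟨g', hg', hblock' g g' hg hg' x h1 h3 y h2, h4⟩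
  have same_symm : ∀ x y, Same x y → Same y x := fun x y ⟨g, hg, h1, h2⟩ => ⟨g, hg, h2, h1⟩
  have same_smul : ∀ q x y, Fix q → Same x y → Same (q • x) (q • y) := by
    rintro q x y hq ⟨g, hg, h1, h2⟩
    exact ⟨q * g, fix_mul _ _ hq hg, by simp [mul_smul, h1], by simp [mul_smul, h2]⟩
  have same_card : ∀ y, y ∉ B → C.card ≤ (univ.filter (Same y)).card ∧ (univ.filter (Same y)).card ≤ C.card := by
    intro y hy
    obtain ⟨z₀, hz₀⟩ : C.Nonempty := card_pos.1 (by omega)
    obtain ⟨g, hg, hgy⟩ := fix_transitive hT1 B hB z₀ y (hCB z₀ hz₀) hy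
    have hyC : g⁻¹ • y ∈ C := by rw [← hgy, inv_smul_smul]; exact hz₀
    constructor
    · refine card_le_card_of_injOn (g • ·) (fun z hz => ?_) ((MulAction.injective g).injOn)
      simp only [mem_coe, mem_filter, mem_univ, true_and]
      exact ⟨g, hg, hyC, by rw [inv_smul_smul]; exact hz⟩
    · refine card_le_card_of_injOn (g⁻¹ • ·) (fun z hz => ?_) ((MulAction.injective g⁻¹).injOn)
      simp only [mem_coe, mem_filter, mem_univ, true_and] at hz
      obtain ⟨g', hg', h1, h2⟩ := hz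
      exact hblock' g' g hg' hg y h1 hyC z h2
  have hkh' := hc.half
  have htwo := hc.two
  have hmm : ∀ g : G, (univ.filter fun z => g⁻¹ • z ∉ H).card + H.card = Fintype.card Ω := by
    intro g
    have e : (univ.filter fun z => g⁻¹ • z ∈ H) = H.image (g • ·) := by
      ext z
      simp only [mem_filter, mem_univ, true_and, mem_image]
      exact ⟨fun h => ⟨_, h, smul_inv_smul g z⟩, by rintro ⟨w, hw, rfl⟩; simpa using hw⟩
    have h1 := card_filter_add_card_filter_not (s := (univ : Finset Ω)) (fun z => g⁻¹ • z ∈ H)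
    rw [e, card_image_of_injective _ (MulAction.injective g), card_univ] at h1
    omega
  have outB : ∀ g : G, (∀ x ∈ B, g⁻¹ • x ∈ H) → ∀ y, g⁻¹ • y ∉ H → y ∉ B := fun g hg y hy h => hy (hg y h)
  -- a Jordan set avoiding `B` and missing a point of a class is inside the class
  have L1 : ∀ g : G, (∀ x ∈ B, g⁻¹ • x ∈ H) → ∀ x y, Same x y → g⁻¹ • x ∈ H → g⁻¹ • y ∉ H →
      ∀ z, g⁻¹ • z ∉ H → Same x z := by
    intro g hg x y hxy hx hy z hz
    obtain ⟨j, hj1, hj2⟩ := hc.translate g hy hz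
    have := same_smul j x y (fun w hw => hj1 w (hg w hw)) hxy
    rwa [hj1 x hx, hj2] at this
  -- one such set exists
  obtain ⟨x₀, hx₀, y₀, hy₀, hxy₀⟩ := one_lt_card.1 (show 1 < C.card by omega)
  obtain ⟨g₁, hg₁, hg₁y⟩ := separation hc (by omega) hkh hT1 (insert x₀ B)
    (by rw [card_insert_of_notMem (hCB x₀ hx₀), hB]) y₀
    (fun h => (mem_insert.1 h).elim (Ne.symm hxy₀) (hCB y₀ hy₀))
  have hg₁B : ∀ x ∈ B, g₁⁻¹ • x ∈ H := fun x hx => hg₁ x (mem_insert_of_mem hx)
  have hg₁x : g₁⁻¹ • x₀ ∈ H := hg₁ x₀ (mem_insert_self _ _)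
  have hxyS : Same x₀ y₀ := ⟨1, fun x _ => one_smul G x, by simpa using hx₀, by simpa using hy₀⟩
  have hΓ₁ := L1 g₁ hg₁B x₀ y₀ hxyS hg₁x hg₁y
  have hsm : (univ.filter fun z => g₁⁻¹ • z ∉ H).card < C.card := by
    refine lt_of_lt_of_le (card_lt_card ?_) (same_card x₀ (hCB x₀ hx₀)).2
    rw [Finset.ssubset_iff_of_subset (fun z hz => by
      simp only [mem_filter, mem_univ, true_and] at hz ⊢
      exact hΓ₁ z hz)]
    exact ⟨x₀, by simp only [mem_filter, mem_univ, true_and]; exact same_trans y₀ x₀ x₀ (same_symm _ _ hxyS) (same_symm _ _ hxyS), by simp [hg₁x]⟩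
  -- every Jordan set avoiding `B` is inside one class
  have L2 : ∀ g : G, (∀ x ∈ B, g⁻¹ • x ∈ H) → ∀ y z, g⁻¹ • y ∉ H → g⁻¹ • z ∉ H → Same y z := by
    intro g hg y z hy hz
    have hyB := outB g hg y hy
    obtain ⟨x, hx, hxH⟩ : ∃ x, Same y x ∧ g⁻¹ • x ∈ H := by
      by_contra hcon
      push_neg at hcon
      have := card_le_card (s := univ.filter (Same y)) (t := univ.filter fun z => g⁻¹ • z ∉ H) fun w hw => by
        simp only [mem_filter, mem_univ, true_and] at hw ⊢
        exact hcon w hw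
      have := (same_card y hyB).1
      have := hmm g
      have := hmm g₁
      omega
    exact same_trans x y z (same_symm _ _ hx) (L1 g hg x y (same_symm _ _ hx) hxH hy z hz)
  -- the apex count
  obtain ⟨b, hb⟩ : B.Nonempty := card_pos.1 (by omega)
  set B' := B.erase b with hB'
  have hB'c : B'.card + 1 = k := by rw [hB', card_erase_of_mem hb]; omega
  let R : Ω → Ω → Ω → Prop := fun a y z =>
    ∃ g : G, (∀ x ∈ B', g • x = x) ∧ g • b = a ∧ Same (g⁻¹ • y) (g⁻¹ • z)
  have hbB' : b ∉ B' := Finset.notMem_erase b B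
  have hins : insert b B' = B := insert_erase hb
  have hout : ∀ g : G, (∀ x ∈ B', g • x = x) → ∀ a, g • b = a → ∀ z, g⁻¹ • z ∈ B ↔ z = a ∨ z ∈ B' := by
    intro g hg a ha z
    constructor
    · intro h
      rw [← hins, mem_insert] at h
      rcases h with h | h
      · left; rw [← ha, ← h, smul_inv_smul]
      · right
        have := hg _ h
        rw [smul_inv_smul] at this
        rwa [← this] at h
    · rintro (rfl | h)
      · rw [← ha, inv_smul_smul]; exact hb
      · rw [inv_smul_eq_iff.2 (hg z h).symm]; exact erase_subset b B h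
  have hRwd : ∀ g g' : G, (∀ x ∈ B', g • x = x) → (∀ x ∈ B', g' • x = x) → g • b = g' • b →
      ∀ y z, Same (g⁻¹ • y) (g⁻¹ • z) → Same (g'⁻¹ • y) (g'⁻¹ • z) := by
    intro g g' hg hg' hbb y z hs
    have hq : Fix (g'⁻¹ * g) := by
      intro x hx
      rw [mul_smul, inv_smul_eq_iff]
      rw [← hins, mem_insert] at hx
      rcases hx with rfl | hx
      · exact hbb
      · rw [hg x hx, hg' x hx]
    have := same_smul _ _ _ hq hs
    rwa [mul_smul, smul_inv_smul, mul_smul, smul_inv_smul] at this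
  obtain ⟨w₁, hw₁, w₂, hw₂, hw12⟩ : ∃ w₁, g₁⁻¹ • w₁ ∉ H ∧ ∃ w₂, g₁⁻¹ • w₂ ∉ H ∧ w₁ ≠ w₂ := by
    obtain ⟨a, ha, c, hc', hac⟩ := one_lt_card.1 (show 1 < (univ.filter fun z => g₁⁻¹ • z ∉ H).card by
      have := hmm g₁; omega)
    simp only [mem_filter, mem_univ, true_and] at ha hc'
    exact ⟨a, ha, c, hc', hac⟩
  have hw₁B : w₁ ∉ B' := fun h => outB g₁ hg₁B w₁ hw₁ (erase_subset b B h)
  have hw₂B : w₂ ∉ B' := fun h => outB g₁ hg₁B w₂ hw₂ (erase_subset b B h)
  -- all apexes in the translate of `H` give the relation on the Jordan set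
  have hlow : ((H.image (g₁ • ·)) \ B').card ≤ (univ.filter fun a => R a w₁ w₂).card := by
    refine card_le_card fun a ha => ?_
    obtain ⟨ha, haB⟩ := mem_sdiff.1 ha
    obtain ⟨w, hw, rfl⟩ := mem_image.1 ha
    simp only [mem_filter, mem_univ, true_and]
    obtain ⟨g, hg, hgb⟩ := fix_transitive (k := k - 1) (u := b) (v := g₁ • w)
      (by rw [show k - 1 + 1 = k by omega]; exact tr_pred hT1 (by omega))
      B' (by omega) hbB' haB
    refine ⟨g, hg, hgb, L2 (g⁻¹ * g₁) ?_ _ _ (by simp [mul_smul, hw₁]) (by simp [mul_smul, hw₂])⟩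
    intro x hx
    rw [mul_inv_rev, inv_inv, mul_smul]
    rw [← hins, mem_insert] at hx
    rcases hx with rfl | hx
    · rw [hgb, inv_smul_smul]; exact hw
    · rw [hg x hx]; exact hg₁B x (erase_subset b B hx)
  -- the number of apexes is the same for all pairs
  have hconst : ∀ z, z ∉ B' → z ≠ w₁ →
      (univ.filter fun a => R a w₁ w₂).card ≤ (univ.filter fun a => R a w₁ z).card := by
    intro z hz hzw
    obtain ⟨q, hq, hq1, hq2⟩ := fix_transitive₂ hT1 B' hB'c w₁ w₂ w₁ z hw₁B hw₂B hw₁B hz hw12 (Ne.symm hzw)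
    refine card_le_card_of_injOn (q • ·) (fun a ha => ?_) ((MulAction.injective q).injOn)
    simp only [mem_coe, mem_filter, mem_univ, true_and] at ha ⊢
    obtain ⟨g, hg, hgb, hs⟩ := ha
    refine ⟨q * g, fun x hx => by rw [mul_smul, hg x hx, hq x hx], by rw [mul_smul, hgb], ?_⟩
    rw [mul_inv_rev, mul_smul, mul_smul, show q⁻¹ • w₁ = w₁ by rw [inv_smul_eq_iff, hq1],
      show q⁻¹ • z = w₂ by rw [inv_smul_eq_iff, hq2]]
    exact hs
  have hsame_out : ∀ y z, Same y z → y ∉ B := fun y z ⟨g, hg, h1, _⟩ h => hCB _ h1 (by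
    rw [fix_inv g hg y h]; exact h)
  set S := (univ : Finset Ω) \ insert w₁ B' with hS
  have hSc : S.card + k = Fintype.card Ω := by
    rw [hS, card_sdiff_of_subset (subset_univ _), card_univ, card_insert_of_notMem hw₁B]
    have := card_le_univ (insert w₁ B')
    rw [card_insert_of_notMem hw₁B] at this
    omega
  -- double count
  have htot : S.card * ((H.image (g₁ • ·)) \ B').card ≤ S.card * (C.card - 1) := by
    have hL : S.card * ((H.image (g₁ • ·)) \ B').card ≤ ∑ z ∈ S, (univ.filter fun a => R a w₁ z).card := by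
      rw [← smul_eq_mul]
      refine card_nsmul_le_sum _ _ _ fun z hz => ?_
      simp only [S, mem_sdiff, mem_univ, true_and, mem_insert, not_or] at hz
      exact hlow.trans (hconst z hz.2 hz.1)
    refine hL.trans ?_
    have e : ∀ z, (univ.filter fun a => R a w₁ z) = S.filter fun a => R a w₁ z := by
      intro z
      ext a
      simp only [S, mem_filter, mem_sdiff, mem_univ, true_and, mem_insert, not_or, iff_and_self]
      rintro ⟨g, hg, hgb, hs⟩
      have h1 := hsame_out _ _ hs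
      rw [hout g hg a hgb] at h1
      push_neg at h1
      refine ⟨Ne.symm h1.1, fun h => hbB' ?_⟩
      have h2 := hg a h
      rw [← hgb] at h2
      have h3 := MulAction.injective g h2
      rwa [← h3, hgb]
    simp only [e, card_filter]
    rw [sum_comm, ← smul_eq_mul]
    refine sum_le_card_nsmul _ _ _ fun a ha => ?_
    rw [← card_filter]
    rcases (S.filter fun z => R a w₁ z).eq_empty_or_nonempty with h0 | ⟨z₀, hz₀⟩
    · rw [h0]; simp
    obtain ⟨g, hg, hgb, hs₀⟩ := (mem_filter.1 hz₀).2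
    have h1 : g⁻¹ • w₁ ∉ B := hsame_out _ _ hs₀
    calc (S.filter fun z => R a w₁ z).card ≤ ((univ.filter (Same (g⁻¹ • w₁))).erase (g⁻¹ • w₁)).card := by
          refine card_le_card_of_injOn (g⁻¹ • ·) (fun z hz => ?_) ((MulAction.injective g⁻¹).injOn)
          obtain ⟨hzS, g', hg', hgb', hs⟩ := mem_filter.1 hz
          simp only [S, mem_sdiff, mem_univ, true_and, mem_insert, not_or] at hzS
          refine mem_erase.2 ⟨fun e' => hzS.1 (MulAction.injective g⁻¹ e'), mem_filter.2 ⟨mem_univ _, ?_⟩⟩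
          exact hRwd g' g hg' hg (by rw [hgb', hgb]) _ _ hs
      _ ≤ C.card - 1 := by
        have := (same_card _ h1).2
        rw [card_erase_of_mem (mem_filter.2 ⟨mem_univ _, same_trans _ _ _ (same_symm _ _ hs₀) (same_symm _ _ hs₀)⟩)]
        omega
  have hlowc : H.card + 1 ≤ ((H.image (g₁ • ·)) \ B').card + k := by
    have := le_card_sdiff B' (H.image (g₁ • ·))
    rw [card_image_of_injective _ (MulAction.injective g₁)] at this
    omega
  have hSpos : 0 < S.card := by omega
  have := Nat.le_of_mul_le_mul_left htot hSpos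
  have := hmm g₁
  omega

/-- the pointwise stabiliser of `k` points is doubly transitive outside -/
theorem stab_two (hc : Config G H) {k : ℕ} (hk1 : 1 ≤ k) (hkh : k + 1 ≤ H.card)
    (hT1 : Tr G (Ω := Ω) (k + 1)) (B : Finset Ω) (c u v : Ω) (hB : B.card = k) (hcB : c ∉ B) (hu : u ∉ B)
    (hv : v ∉ B) (huc : u ≠ c) (hvc : v ≠ c) :
    ∃ g : G, (∀ x ∈ B, g • x = x) ∧ g • c = c ∧ g • u = v := by
  classical
  let K := fixingSubgroup G (B : Set Ω)
  let D := ofFixingSubgroup G (B : Set Ω)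
  have hD : ∀ z, z ∈ D ↔ z ∉ B := fun z => by simp [D, mem_ofFixingSubgroup_iff]
  have hK : ∀ g : G, g ∈ K ↔ ∀ x ∈ B, g • x = x := fun g => by
    simp [K, mem_fixingSubgroup_iff]
  haveI hpt : IsPretransitive K D := ⟨fun x y => by
    obtain ⟨g, hg, hgx⟩ := fix_transitive hT1 B hB (x : Ω) (y : Ω) ((hD _).1 x.2) ((hD _).1 y.2)
    exact ⟨⟨g, (hK g).2 hg⟩, Subtype.ext hgx⟩⟩
  have hcard : Nat.card D + k = Fintype.card Ω := by
    have : Nat.card D = (univ \ B).card := by
      rw [Nat.card_eq_fintype_card, Fintype.card_subtype]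
      congr 1
      ext z
      simp [hD]
    rw [this, card_sdiff_of_subset (subset_univ B), card_univ, hB]
    have := card_le_univ B
    omega
  have hprim : IsPreprimitive K D := by
    refine ⟨fun {C} hC => ?_⟩
    by_cases hsub : C.Subsingleton
    · exact Or.inl hsub
    by_cases huniv : C = Set.univ
    · exact Or.inr huniv
    exfalso
    let C' : Finset Ω := C.toFinset.image Subtype.val
    have hcC : C'.card = C.ncard := by
      rw [card_image_of_injective _ Subtype.val_injective, Set.ncard_eq_toFinset_card']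
    refine no_block hc hk1 hkh hT1 B hB C' ?_ ?_ ?_ ?_
    · intro z hz
      obtain ⟨w, _, rfl⟩ := mem_image.1 hz
      exact (hD _).1 w.2
    · rw [hcC]
      by_contra hlt
      exact hsub (Set.ncard_le_one_iff_subsingleton.1 (by omega))
    · have : ¬ Nat.card D < C.ncard * 2 := fun h => huniv (hC.eq_univ_of_card_lt h)
      omega
    · intro g hg ⟨z, hz, hgz⟩ w
      obtain ⟨z', hz', rfl⟩ := mem_image.1 hz
      obtain ⟨z'', hz'', he⟩ := mem_image.1 hgz
      rw [Set.mem_toFinset] at hz' hz''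
      let g' : K := ⟨g, (hK g).2 hg⟩
      have hsm : g' • C = C := hC.smul_eq_of_mem hz' (by rwa [show g' • z' = z'' from Subtype.ext he.symm])
      constructor
      · intro h
        obtain ⟨w', hw', he'⟩ := mem_image.1 h
        rw [Set.mem_toFinset, ← hsm] at hw'
        obtain ⟨w'', hw'', rfl⟩ := hw'
        rw [← MulAction.injective g (show g • (w'' : Ω) = g • w from he')]
        exact mem_image.2 ⟨w'', Set.mem_toFinset.2 hw'', rfl⟩
      · intro h
        obtain ⟨w', hw', rfl⟩ := mem_image.1 h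
        rw [Set.mem_toFinset] at hw'
        exact mem_image.2 ⟨g' • w', Set.mem_toFinset.2 (hsm ▸ Set.smul_mem_smul_set hw'), rfl⟩
  -- a Jordan set avoiding `B`
  obtain ⟨g₀, hg₀⟩ : ∃ g₀ : G, ∀ x ∈ B, g₀⁻¹ • x ∈ H := by
    obtain ⟨e, he⟩ : (univ \ B).Nonempty := ⟨c, by simp [hcB]⟩
    obtain ⟨Y, hYH, hY⟩ := exists_subset_card_eq hkh
    obtain ⟨g, hg⟩ := tr_move hT1 (insert e B) Y (by rw [card_insert_of_notMem (mem_sdiff.1 he).2, hB]) hY
    refine ⟨g⁻¹, fun x hx => ?_⟩
    have := hg x (mem_insert_of_mem hx)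
    rw [inv_inv]
    exact hYH this
  let S : Set D := {z | g₀⁻¹ • (z : Ω) ∈ H}
  have hS : S.ncard + k = H.card := by
    have e : (Subtype.val '' S) = ((H.image (g₀ • ·) \ B : Finset Ω) : Set Ω) := by
      ext z
      simp only [Set.mem_image, coe_sdiff, coe_image, Set.mem_sdiff, mem_coe, S, Set.mem_ofPred_eq]
      constructor
      · rintro ⟨w, hw, rfl⟩
        exact ⟨⟨_, hw, smul_inv_smul g₀ (w : Ω)⟩, (hD _).1 w.2⟩
      · rintro ⟨⟨w, hw, rfl⟩, hB'⟩
        exact ⟨⟨_, (hD _).2 hB'⟩, by simpa using hw, rfl⟩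
    rw [← Set.ncard_image_of_injective S Subtype.val_injective, e, Set.ncard_coe_finset,
      card_sdiff_of_subset (fun x hx => mem_image.2 ⟨_, hg₀ x hx, smul_inv_smul g₀ x⟩),
      card_image_of_injective _ (MulAction.injective g₀), hB]
    omega
  obtain ⟨n, hn⟩ : ∃ n, S.ncard = n + 1 := ⟨S.ncard - 1, by omega⟩
  have := hc.two
  have h2 := hprim.is_two_pretransitive hn (by omega) ⟨fun x y => by
    have hx : g₀⁻¹ • ((x : D) : Ω) ∉ H := fun h => x.2 h
    have hy : g₀⁻¹ • ((y : D) : Ω) ∉ H := fun h => y.2 h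
    obtain ⟨j, hj1, hj2⟩ := hc.translate g₀ hx hy
    refine ⟨⟨⟨j, (hK j).2 fun z hz => hj1 z (hg₀ z hz)⟩, ?_⟩, Subtype.ext (Subtype.ext hj2)⟩
    rw [mem_fixingSubgroup_iff]
    exact fun z hz => Subtype.ext (hj1 _ hz)⟩
  obtain ⟨g, h1, h2'⟩ := is_two_pretransitive_iff.mp h2
    (show (⟨c, (hD c).2 hcB⟩ : D) ≠ ⟨u, (hD u).2 hu⟩ from fun e => huc (congrArg Subtype.val e).symm)
    (show (⟨c, (hD c).2 hcB⟩ : D) ≠ ⟨v, (hD v).2 hv⟩ from fun e => hvc (congrArg Subtype.val e).symm)
  exact ⟨g, (hK g).1 g.2, congrArg Subtype.val h1, congrArg Subtype.val h2'⟩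

/-- **Marggraff's theorem.** -/
theorem marggraff (hprim : IsPreprimitive G Ω) (hc : Config G H) :
    ∀ σ : Equiv.Perm Ω, Equiv.Perm.sign σ = 1 → ∃ x : G, (MulAction.toPerm x : Equiv.Perm Ω) = σ := by
  classical
  have htwo := hc.two
  have hhalf := hc.half
  -- double transitivity
  obtain ⟨n, hn⟩ : ∃ n, (H : Set Ω).ncard = n + 1 := ⟨H.card - 1, by rw [Set.ncard_coe_finset]; omega⟩
  have h2 : IsMultiplyPretransitive G Ω 2 := hprim.is_two_pretransitive hn
    (by rw [Nat.card_eq_fintype_card]; rw [Set.ncard_coe_finset] at hn; omega) ⟨fun x y => by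
      obtain ⟨j, hj1, hj2⟩ := hc.jordan (x : Ω) (y : Ω) (fun h => x.2 h) (fun h => y.2 h)
      exact ⟨⟨j, (mem_fixingSubgroup_iff G).2 fun z hz => hj1 z hz⟩, Subtype.ext hj2⟩⟩
  have hT2 : Tr G (Ω := Ω) 2 := by
    intro X f hX hf
    obtain ⟨a, b, hab, rfl⟩ := card_eq_two.1 hX
    obtain ⟨g, h1, h2'⟩ := is_two_pretransitive_iff.mp h2 hab
      (show f a ≠ f b from fun e => hab (hf (by simp) (by simp) e))
    refine ⟨g, fun x hx => ?_⟩
    rcases mem_insert.1 hx with rfl | hx
    · exact h1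
    · rw [mem_singleton.1 hx]; exact h2'
  have hT : ∀ k, k + 2 ≤ H.card → Tr G (Ω := Ω) (k + 2) := by
    intro k
    induction k with
    | zero => exact fun _ => hT2
    | succ k ih =>
      intro hk
      exact tr_step (ih (by omega)) fun B c u v hB hc' hu hv huc hvc =>
        stab_two hc (by omega) (by omega) (ih (by omega)) B c u v hB hc' hu hv huc hvc
  -- the Jordan set
  set Γ := (univ : Finset Ω) \ H with hΓ
  have hΓc : Γ.card + H.card = Fintype.card Ω := by
    rw [hΓ, card_sdiff_of_subset (subset_univ H), card_univ]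
    have := card_le_univ H
    omega
  have hTm : Tr G (Ω := Ω) Γ.card := by
    have := hT (Γ.card - 2) (by omega)
    rwa [Nat.sub_add_cancel (by omega)] at this
  obtain ⟨a, ha⟩ : Γ.Nonempty := card_pos.1 (by omega)
  obtain ⟨a', ha'⟩ : (Γ.erase a).Nonempty := card_pos.1 (by rw [card_erase_of_mem ha]; omega)
  have hmemΓ : ∀ z, z ∈ Γ ↔ z ∉ H := fun z => by simp [Γ]
  obtain ⟨h, hh1, hh2⟩ := hc.jordan a a' ((hmemΓ a).1 ha) ((hmemΓ a').1 (mem_of_mem_erase ha'))
  obtain ⟨S, hSH, hS⟩ := exists_subset_card_eq (show Γ.card - 1 ≤ H.card by omega)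
  have e : {x // x ∈ Γ.erase a} ≃ {x // x ∈ S} := Finset.equivOfCardEq (by rw [card_erase_of_mem ha, hS])
  have hinj : Set.InjOn (fun x => if hx : x ∈ Γ.erase a then (e ⟨x, hx⟩ : Ω) else x) ↑Γ := by
    intro x hx y hy hxy
    simp only at hxy
    have key : ∀ x y : Ω, x ∈ Γ → ∀ hy : y ∈ Γ.erase a, x ∉ Γ.erase a → x = (e ⟨y, hy⟩ : Ω) → False :=
      fun x y hx hy hxe he => (hmemΓ x).1 hx (he ▸ hSH (e ⟨y, hy⟩).2)
    split_ifs at hxy with h1 h2 h2
    · exact congrArg Subtype.val (e.injective (Subtype.ext hxy))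
    · exact (key y x hy h1 h2 hxy.symm).elim
    · exact (key x y hx h2 h1 hxy).elim
    · exact hxy
  obtain ⟨g, hg⟩ := hTm Γ _ rfl hinj
  have hga : g • a = a := by rw [hg a ha, dif_neg (Finset.notMem_erase a Γ)]
  have hgS : ∀ x ∈ Γ, x ≠ a → g • x ∈ H := fun x hx hxa => by
    rw [hg x hx, dif_pos (mem_erase.2 ⟨hxa, hx⟩)]
    exact hSH (e ⟨x, mem_erase.2 ⟨hxa, hx⟩⟩).2
  set k := g * h * g⁻¹ with hk
  have hha : h • a ≠ a := by rw [hh2]; exact (mem_erase.1 ha').1
  have hka : k • a ≠ a := by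
    rw [hk, mul_smul, mul_smul, inv_smul_eq_iff.2 hga.symm]
    intro e'
    exact hha (MulAction.injective g (e'.trans hga.symm))
  have hc3 := three_cycle (MulAction.toPerm h : Equiv.Perm Ω) (MulAction.toPerm k) a hha hka ?_
  · let φ : G →* Equiv.Perm Ω := MulAction.toPermHom G Ω
    have hrange : alternatingGroup Ω ≤ φ.range := by
      refine Equiv.Perm.alternatingGroup_le_of_isPreprimitive_of_isThreeCycle_mem ?_ hc3 ?_
      · let f : Ω →ₑ[(φ.rangeRestrict : G → φ.range)] Ω := { toFun := id, map_smul' := fun _ _ => rfl }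
        exact IsPreprimitive.of_surjective (f := f) Function.surjective_id
      · exact ⟨h * k * h⁻¹ * k⁻¹, by simp only [φ, map_mul, map_inv, MulAction.toPermHom_apply]⟩
    intro σ hσ
    obtain ⟨x, hx⟩ := hrange (Equiv.Perm.mem_alternatingGroup.2 hσ)
    exact ⟨x, hx⟩
  · intro x hx1 hx2
    have hxΓ : x ∈ Γ := (hmemΓ x).2 fun hxH => hx1 (hh1 x hxH)
    have hxg : g⁻¹ • x ∈ Γ := (hmemΓ _).2 fun hxH => hx2 (by
      show k • x = x
      rw [hk, mul_smul, mul_smul, hh1 _ hxH, smul_inv_smul])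
    by_contra hxa
    have hne : g⁻¹ • x ≠ a := fun e' => hxa (by rw [← smul_inv_smul g x, e', hga])
    have := hgS _ hxg hne
    rw [smul_inv_smul] at this
    exact (hmemΓ x).1 hxΓ this

end Cfsg.Agent.Marggraff
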