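import Cfsg.Agent.Lib.Marggraff.Prim

/-! Marggraff's theorem for quasiprimitive groups. -/

set_option autoImplicit false

namespace Cfsg.Agent.Marggraff

open Finset MulAction
open scoped Pointwise

universe u v

theorem conj_swap {β : Type*} [Fintype β] [DecidableEq β] (c : Equiv.Perm β) (hc : c.IsThreeCycle) (p : β)
    (hp : c p ≠ p) : Equiv.swap p (c p) * c * Equiv.swap p (c p) = c⁻¹ := by
  have h3 : ∀ x, c (c (c x)) = x := fun x => by
    have : c ^ 3 = 1 := by rw [← hc.orderOf]; exact pow_orderOf_eq_one c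
    have h := congrArg (fun q : Equiv.Perm β => q x) this
    simpa [pow_succ] using h
  set q := c p with hq
  set r := c q with hr
  have hqp : q ≠ p := hp
  have hrq : r ≠ q := fun e => hqp (c.injective (hr.symm.trans e |>.trans hq))
  have hrp : r ≠ p := fun e => hqp (by
    have h := h3 p
    rw [← hq, ← hr, e, ← hq] at h
    exact h)
  have hcr : c r = p := h3 p
  have hsupp : c.support = {p, q, r} := by
    refine (Finset.eq_of_subset_of_card_le ?_ ?_).symm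
    · intro x hx
      simp only [Finset.mem_insert, Finset.mem_singleton] at hx
      rw [Equiv.Perm.mem_support]
      rcases hx with rfl | rfl | rfl
      · exact hp
      · exact hrq
      · rw [hcr]; exact hrp.symm
    · rw [hc.card_support, Finset.card_insert_of_notMem (by simp [hqp.symm, hrp.symm]),
        Finset.card_pair hrq.symm]
  refine (inv_eq_of_mul_eq_one_right ?_).symm
  ext x
  simp only [Equiv.Perm.mul_apply, Equiv.Perm.one_apply]
  by_cases h1 : x = p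
  · subst h1; rw [Equiv.swap_apply_left, ← hr, Equiv.swap_apply_of_ne_of_ne hrp hrq, hcr]
  by_cases h2 : x = q
  · subst h2; rw [Equiv.swap_apply_right, ← hq, Equiv.swap_apply_right, ← hq]
  by_cases h4 : x = r
  · subst h4; rw [Equiv.swap_apply_of_ne_of_ne hrp hrq, hcr, Equiv.swap_apply_left, ← hr]
  · have hf : c x = x := by
      by_contra hm
      have := Equiv.Perm.mem_support.2 hm
      rw [hsupp] at this
      simp [h1, h2, h4] at this
    rw [Equiv.swap_apply_of_ne_of_ne h1 h2, hf, Equiv.swap_apply_of_ne_of_ne h1 h2, hf]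

/-- a group containing one 3-cycle fixing `o` and closed under conjugation by even permutations fixing `o`
contains all even permutations fixing `o` -/
theorem all_even {β : Type*} [Fintype β] [DecidableEq β] (o : β) (S : Subgroup (Equiv.Perm β))
    (c : Equiv.Perm β) (hc : c.IsThreeCycle) (hco : c o = o) (hcS : c ∈ S)
    (hconj : ∀ τ : Equiv.Perm β, Equiv.Perm.sign τ = 1 → τ o = o → ∀ s ∈ S, τ * s * τ⁻¹ ∈ S)
    (σ : Equiv.Perm β) (hσ : Equiv.Perm.sign σ = 1) (hσo : σ o = o) : σ ∈ S := by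
  classical
  have hcyc : ∀ d : Equiv.Perm β, d.IsThreeCycle → d o = o → d ∈ S := by
    intro d hd hdo
    let c' : Equiv.Perm {x // x ≠ o} := c.subtypePerm (fun x => not_congr
      ⟨fun e => c.injective (e.trans hco.symm), fun e => by rw [e, hco]⟩)
    let d' : Equiv.Perm {x // x ≠ o} := d.subtypePerm (fun x => not_congr
      ⟨fun e => d.injective (e.trans hdo.symm), fun e => by rw [e, hdo]⟩)
    have e1 : Equiv.Perm.ofSubtype c' = c := Equiv.Perm.ofSubtype_subtypePerm _ fun x hx e => hx (e ▸ hco)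
    have e2 : Equiv.Perm.ofSubtype d' = d := Equiv.Perm.ofSubtype_subtypePerm _ fun x hx e => hx (e ▸ hdo)
    have hct : ∀ f : Equiv.Perm {x // x ≠ o}, (Equiv.Perm.ofSubtype f).cycleType = f.cycleType :=
      fun f => Equiv.Perm.cycleType_ofSubtype
    have hh : c'.cycleType = d'.cycleType := by
      rw [← hct, ← hct, e1, e2]; exact hc.trans hd.symm
    obtain ⟨τ, hτ⟩ := isConj_iff.1 (Equiv.Perm.isConj_iff_cycleType_eq.2 hh)
    set T := Equiv.Perm.ofSubtype τ with hT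
    have hTo : T o = o := Equiv.Perm.ofSubtype_apply_of_not_mem τ (by simp)
    have hTd : T * c * T⁻¹ = d := by rw [hT, ← e1, ← map_inv, ← map_mul, ← map_mul, hτ, e2]
    obtain ⟨p, hp⟩ : ∃ p, c p ≠ p := by
      by_contra hcon
      push_neg at hcon
      exact absurd (Equiv.ext hcon : c = 1) hc.ne_one
    rcases Int.units_eq_one_or (Equiv.Perm.sign T) with h | h
    · exact hTd ▸ hconj T h hTo c hcS
    · set w := Equiv.swap p (c p) with hw
      have hwo : w o = o := Equiv.swap_apply_of_ne_of_ne (fun e => hp (e ▸ hco))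
        (fun e => hp (c.injective (e.symm.trans hco.symm) |>.symm ▸ hco))
      have := hconj (T * w) (by rw [map_mul, h, hw, Equiv.Perm.sign_swap (Ne.symm hp)]; decide)
        (by rw [Equiv.Perm.mul_apply, hwo, hTo]) c⁻¹ (inv_mem hcS)
      have e3 : w * c⁻¹ * w⁻¹ = c := by
        rw [← conj_swap c hc p hp, hw, Equiv.swap_inv]
        simp only [mul_assoc, Equiv.swap_mul_self, mul_one]
        rw [← mul_assoc, Equiv.swap_mul_self, one_mul]
      rw [show (T * w) * c⁻¹ * (T * w)⁻¹ = T * (w * c⁻¹ * w⁻¹) * T⁻¹ by group, e3, hTd] at this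
      exact this
  let σ' : Equiv.Perm {x // x ≠ o} := σ.subtypePerm (fun x => not_congr
      ⟨fun e => σ.injective (e.trans hσo.symm), fun e => by rw [e, hσo]⟩)
  have e : Equiv.Perm.ofSubtype σ' = σ := Equiv.Perm.ofSubtype_subtypePerm _ fun x hx e => hx (e ▸ hσo)
  have hσ' : σ' ∈ alternatingGroup {x // x ≠ o} := by
    rw [Equiv.Perm.mem_alternatingGroup, ← Equiv.Perm.sign_ofSubtype, e, hσ]
  rw [← Equiv.Perm.closure_three_cycles_eq_alternating] at hσ'
  have hle : Subgroup.closure {f : Equiv.Perm {x // x ≠ o} | Equiv.Perm.IsThreeCycle f} ≤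
      S.comap Equiv.Perm.ofSubtype := by
    rw [Subgroup.closure_le]
    intro f hf
    exact hcyc _ (by rw [Equiv.Perm.IsThreeCycle, Equiv.Perm.cycleType_ofSubtype]; exact hf)
      (Equiv.Perm.ofSubtype_apply_of_not_mem f (by simp))
  exact e ▸ hle hσ'

variable {G : Type u} [Group G] [Finite G]

theorem quasiprimitive : ∀ (n : ℕ) {Ω : Type v} [MulAction G Ω] [FaithfulSMul G Ω] [Fintype Ω] [DecidableEq Ω],
    Fintype.card Ω = n → (∀ N : Subgroup G, N.Normal → N ≠ ⊥ → MulAction.IsPretransitive ↥N Ω) →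
    ∀ Γ : Finset Ω, 1 < Γ.card → 2 * Γ.card < n →
    (∀ a b, a ∈ Γ → b ∈ Γ → ∃ g : G, (∀ y, y ∉ Γ → g • y = y) ∧ g • a = b) →
    ∀ σ : Equiv.Perm Ω, Equiv.Perm.sign σ = 1 → ∃ x : G, (MulAction.toPerm x : Equiv.Perm Ω) = σ := by
  intro n
  induction n using Nat.strong_induction_on with
  | h n ih =>
  intro Ω _ _ _ _ hn hqp Γ hΓ1 hΓ2 hJ
  classical
  obtain ⟨a, ha, b, hb, hab⟩ := one_lt_card.1 hΓ1
  obtain ⟨k₀, hk₀, hk₀ab⟩ := hJ a b ha hb
  have hG1 : (⊤ : Subgroup G) ≠ ⊥ := fun h => hab (by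
    have hk1 : k₀ = 1 := (Subgroup.mem_bot).1 (h ▸ Subgroup.mem_top k₀)
    rw [← hk₀ab, hk1, one_smul])
  haveI hGtr : IsPretransitive G Ω := by
    haveI := hqp ⊤ inferInstance hG1
    exact ⟨fun x y => by
      obtain ⟨g, hg⟩ := exists_smul_eq (⊤ : Subgroup G) x y
      exact ⟨(g : G), hg⟩⟩
  by_cases hprim : IsPreprimitive G Ω
  · refine marggraff hprim (H := Γᶜ) ⟨by rw [card_compl]; omega, by rw [card_compl]; omega, ?_⟩
    intro x y hx hy
    simp only [mem_compl, not_not] at hx hy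
    obtain ⟨g, hg, hgx⟩ := hJ x y hx hy
    exact ⟨g, fun z hz => hg z (mem_compl.1 hz), hgx⟩
  exfalso
  obtain ⟨B, hB, hBt⟩ : ∃ B : Set Ω, IsBlock G B ∧ ¬ IsTrivialBlock B := by
    by_contra hcon
    push_neg at hcon
    exact hprim ⟨fun {B} hB => hcon B hB⟩
  rw [IsTrivialBlock, not_or] at hBt
  obtain ⟨hBsub, hBuniv⟩ := hBt
  obtain ⟨x₀, hx₀, y₀, hy₀, hxy₀⟩ : ∃ x ∈ B, ∃ y ∈ B, x ≠ y := by
    simp only [Set.Subsingleton, not_forall] at hBsub
    obtain ⟨x, hx, y, hy, hxy⟩ := hBsub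
    exact ⟨x, hx, y, hy, hxy⟩
  let Bk := ↥(orbit G B)
  haveI : Fintype Bk := Fintype.ofFinite _
  haveI : DecidableEq Bk := Classical.decEq _
  have hblk : ∀ C : Bk, ∃ g : G, g • B = (C : Set Ω) := fun C => C.2
  have huniq : ∀ (C C' : Bk) (y : Ω), y ∈ (C : Set Ω) → y ∈ (C' : Set Ω) → C = C' := by
    intro C C' y h1 h2
    obtain ⟨g, hg⟩ := hblk C
    obtain ⟨g', hg'⟩ := hblk C'
    apply Subtype.ext
    rw [← hg, ← hg']
    rcases hB.smul_eq_smul_or_disjoint (g₁ := g) (g₂ := g') with h | h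
    · exact h
    · exact absurd (hg' ▸ h2) (Set.disjoint_left.1 h (hg ▸ h1))
  have hex : ∀ y : Ω, ∃ C : Bk, y ∈ (C : Set Ω) := by
    intro y
    obtain ⟨g, hg⟩ := exists_smul_eq G x₀ y
    exact ⟨⟨g • B, mem_orbit B g⟩, hg ▸ Set.smul_mem_smul_set hx₀⟩
  choose blk hblk_mem using hex
  have hblk_eq : ∀ (C : Bk) y, y ∈ (C : Set Ω) → blk y = C := fun C y hy => huniq _ _ y (hblk_mem y) hy
  have hsmem : ∀ (g : G) (C : Bk) y, y ∈ (C : Set Ω) → g • y ∈ ((g • C : Bk) : Set Ω) := fun g C y hy =>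
    Set.smul_mem_smul_set hy
  have hblk_smul : ∀ (g : G) y, blk (g • y) = g • blk y := fun g y => hblk_eq _ _ (hsmem g _ _ (hblk_mem y))
  have hpt : ∀ C : Bk, ∃ y, blk y = C := fun C => by
    obtain ⟨g, hg⟩ := hblk C
    exact ⟨g • x₀, hblk_eq C _ (hg ▸ Set.smul_mem_smul_set hx₀)⟩
  -- the kernel on the blocks is trivial
  have hker : ∀ x : G, (∀ C : Bk, x • C = C) → x = 1 := by
    let N : Subgroup G := ⨅ C : Bk, stabilizer G C
    have hmemN : ∀ x, x ∈ N ↔ ∀ C : Bk, x • C = C := fun x => by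
      simp only [N, Subgroup.mem_iInf, mem_stabilizer_iff]
    have hNn : N.Normal := ⟨fun x hx c => (hmemN _).2 fun C => by
      rw [mul_smul, mul_smul, (hmemN x).1 hx, smul_inv_smul]⟩
    intro x hx
    by_contra hx1
    have hN1 : N ≠ ⊥ := fun h => hx1 (Subgroup.mem_bot.1 (h ▸ (hmemN x).2 hx))
    haveI := hqp N hNn hN1
    refine hBuniv (Set.eq_univ_of_forall fun z => ?_)
    obtain ⟨⟨y, hy⟩, hyz⟩ := exists_smul_eq N x₀ z
    have h1 := (hmemN y).1 hy ⟨B, mem_orbit_self B⟩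
    have h2 := congrArg Subtype.val h1
    rw [← hyz]
    have h3 : y • B = B := h2
    have h4 : y • x₀ ∈ y • B := Set.smul_mem_smul_set hx₀
    rw [h3] at h4
    exact h4
  haveI : FaithfulSMul G Bk := ⟨fun {g g'} h => by
    have := hker (g'⁻¹ * g) fun C => by rw [mul_smul, h, inv_smul_smul]
    exact (inv_mul_eq_one.1 this).symm⟩
  have hqp' : ∀ N : Subgroup G, N.Normal → N ≠ ⊥ → IsPretransitive ↥N Bk := by
    intro N hN hN1
    haveI := hqp N hN hN1
    refine ⟨fun C C' => ?_⟩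
    obtain ⟨y, rfl⟩ := hpt C
    obtain ⟨y', rfl⟩ := hpt C'
    obtain ⟨g, hg⟩ := exists_smul_eq N y y'
    exact ⟨g, by rw [← hg]; exact (hblk_smul (g : G) y).symm⟩
  -- blocks are inside or outside `Γ`
  have hfixblk : ∀ g : G, (∀ y, y ∉ Γ → g • y = y) → ∀ y, y ∉ Γ → g • blk y = blk y := fun g hg y hy => by
    rw [← hblk_smul, hg y hy]
  have hJblk : ∀ x y, x ∈ Γ → y ∈ Γ → ∀ w, w ∉ Γ → blk w = blk x → blk y = blk x := by
    intro x y hx hy w hw hwx
    obtain ⟨g, hg, hgx⟩ := hJ x y hx hy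
    rw [← hgx, hblk_smul, ← hwx, hfixblk g hg w hw]
  have hmove : ∀ x y, x ∈ Γ → y ∈ Γ → x ≠ y → ∃ C : Bk, ∃ g : G, (∀ z, z ∉ Γ → g • z = z) ∧ g • x = y ∧ g • C ≠ C := by
    intro x y hx hy hxy
    obtain ⟨g, hg, hgx⟩ := hJ x y hx hy
    by_contra hcon
    push_neg at hcon
    have := hker g fun C => hcon C g hg hgx
    rw [this, one_smul] at hgx
    exact hxy hgx
  set Δ := Γ.image blk with hΔ
  have hΔ1 : 1 < Δ.card := by
    by_contra hle
    have hall : ∀ x ∈ Γ, blk x = blk a := fun x hx =>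
      card_le_one.1 (not_lt.1 hle) _ (mem_image_of_mem blk hx) _ (mem_image_of_mem blk ha)
    obtain ⟨C, g, hg, hgab, hgC⟩ := hmove a b ha hb hab
    obtain ⟨y, rfl⟩ := hpt C
    by_cases hy : y ∈ Γ
    · rw [hall y hy] at hgC
      apply hgC
      rw [← hblk_smul, hgab, hall b hb]
    · exact hgC (hfixblk g hg y hy)
  have hin : ∀ x y, x ∈ Γ → blk y = blk x → y ∈ Γ := by
    intro x y hx hyx
    by_contra hy
    obtain ⟨C, hC, C', hC', hne⟩ := one_lt_card.1 hΔ1
    obtain ⟨u, hu, rfl⟩ := mem_image.1 hC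
    obtain ⟨w, hw, rfl⟩ := mem_image.1 hC'
    exact hne ((hJblk x u hx hu y hy hyx).trans (hJblk x w hx hw y hy hyx).symm)
  have hΔmem : ∀ y, blk y ∈ Δ ↔ y ∈ Γ := fun y => ⟨fun h => by
    obtain ⟨x, hx, hxy⟩ := mem_image.1 h
    exact hin x y hx hxy.symm, mem_image_of_mem blk⟩
  -- counting
  set c := B.ncard with hc
  have hfib : ∀ C : Bk, ((univ : Finset Ω).filter fun y => blk y = C).card = c := by
    intro C
    obtain ⟨g, hg⟩ := hblk C
    have : (((univ : Finset Ω).filter fun y => blk y = C) : Set Ω) = (C : Set Ω) := by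
      ext y
      simp only [coe_filter, mem_univ, true_and, Set.mem_ofPred_eq]
      exact ⟨fun h => h ▸ hblk_mem y, hblk_eq C y⟩
    rw [← Set.ncard_coe_finset, this, ← hg, Set.ncard_smul_set]
  have hc2 : 2 ≤ c := (Set.one_lt_ncard (Set.toFinite B)).2 ⟨x₀, hx₀, y₀, hy₀, hxy₀⟩
  have hncard : n = Fintype.card Bk * c := by
    rw [← hn, ← card_univ, card_eq_sum_card_fiberwise (f := blk) (t := univ) (fun _ _ => mem_univ _),
      sum_congr rfl (fun C _ => hfib C), sum_const, smul_eq_mul, card_univ]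
  have hΓcard : Γ.card = Δ.card * c := by
    rw [card_eq_sum_card_fiberwise (f := blk) (t := Δ) (fun x hx => mem_image_of_mem blk hx)]
    rw [← smul_eq_mul, ← sum_const]
    refine sum_congr rfl fun C hC => ?_
    rw [← hfib C]
    congr 1
    ext y
    simp only [mem_filter, mem_univ, true_and, and_iff_right_iff_imp]
    intro h
    exact (hΔmem y).1 (h ▸ hC)
  have hΔ2 : 2 * Δ.card < Fintype.card Bk := by
    rw [hΓcard, hncard, ← mul_assoc] at hΓ2
    exact lt_of_mul_lt_mul_right hΓ2 (Nat.zero_le c)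
  have hlt : Fintype.card Bk < n := by
    rw [hncard]
    calc Fintype.card Bk < Fintype.card Bk * 2 := by omega
      _ ≤ _ := Nat.mul_le_mul_left _ hc2
  have hJ' : ∀ C C', C ∈ Δ → C' ∈ Δ → ∃ g : G, (∀ D, D ∉ Δ → g • D = D) ∧ g • C = C' := by
    intro C C' hC hC'
    obtain ⟨x, hx, rfl⟩ := mem_image.1 hC
    obtain ⟨y, hy, rfl⟩ := mem_image.1 hC'
    obtain ⟨g, hg, hgx⟩ := hJ x y hx hy
    refine ⟨g, fun D hD => ?_, by rw [← hblk_smul, hgx]⟩
    obtain ⟨w, rfl⟩ := hpt D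
    exact hfixblk g hg w fun h => hD ((hΔmem w).2 h)
  have halt := ih (Fintype.card Bk) hlt (Ω := Bk) rfl hqp' Δ hΔ1 hΔ2 hJ'
  -- blocks used
  obtain ⟨O, P, Q, hO, hP, hQ, hOP, hOQ, hPQ⟩ := two_lt_card_iff.1
    (show 2 < (univ \ Δ).card by rw [card_sdiff_of_subset (subset_univ _), card_univ]; omega)
  simp only [mem_sdiff, mem_univ, true_and] at hO hP hQ
  obtain ⟨C1, hC1, C2, hC2, hC12⟩ := one_lt_card.1 hΔ1
  obtain ⟨u, hu, rfl⟩ := mem_image.1 hC1
  obtain ⟨w, hw, rfl⟩ := mem_image.1 hC2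
  obtain ⟨h, hh, hhuw⟩ := hJ u w hu hw
  have hhD : ∀ D, D ∉ Δ → h • D = D := fun D hD => by
    obtain ⟨z, rfl⟩ := hpt D
    exact hfixblk h hh z fun hz => hD ((hΔmem z).2 hz)
  have hne1 : ∀ D, D ∉ Δ → D ≠ blk u := fun D hD e => hD (e ▸ hC1)
  let φ : G →* Equiv.Perm Bk := MulAction.toPermHom G Bk
  have hφ : ∀ g C, φ g C = g • C := fun _ _ => rfl
  have hφinj : Function.Injective φ := MulAction.toPerm_injective
  -- the three cycle `blk u, P, Q`
  set σ₁ : Equiv.Perm Bk := Equiv.swap (blk u) P * Equiv.swap (blk u) Q with hσ₁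
  have hs1 : Equiv.Perm.sign σ₁ = 1 := by
    rw [hσ₁, map_mul, Equiv.Perm.sign_swap (hne1 P hP).symm, Equiv.Perm.sign_swap (hne1 Q hQ).symm]; decide
  obtain ⟨x, hx⟩ := halt σ₁ hs1
  have hcyc := three_cycle (φ h) σ₁ (blk u) (by rw [hφ, ← hblk_smul, hhuw]; exact hC12.symm)
    (by
      rw [hσ₁, Equiv.Perm.mul_apply, Equiv.swap_apply_left,
        Equiv.swap_apply_of_ne_of_ne (hne1 Q hQ) hPQ.symm]
      exact hne1 Q hQ)
    (by
      intro D hD1 hD2
      by_contra hD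
      have hDP : D ≠ P := fun e => hD1 (by rw [hφ, e, hhD P hP])
      have hDQ : D ≠ Q := fun e => hD1 (by rw [hφ, e, hhD Q hQ])
      exact hD2 (by rw [hσ₁, Equiv.Perm.mul_apply, Equiv.swap_apply_of_ne_of_ne hD hDQ,
        Equiv.swap_apply_of_ne_of_ne hD hDP]))
  let K0 : Subgroup G := fixingSubgroup G ((O : Bk) : Set Ω)
  have hK0 : ∀ g, g ∈ K0 ↔ ∀ y, y ∈ (O : Set Ω) → g • y = y := fun g => mem_fixingSubgroup_iff G
  have hK0conj : ∀ g : G, g • O = O → ∀ k ∈ K0, g * k * g⁻¹ ∈ K0 := by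
    intro g hg k hk
    rw [hK0] at hk ⊢
    intro y hy
    have : g⁻¹ • y ∈ (O : Set Ω) := by
      have := hsmem g⁻¹ O y hy
      rwa [show g⁻¹ • O = O by rw [inv_smul_eq_iff, hg]] at this
    rw [mul_smul, mul_smul, hk _ this, smul_inv_smul]
  have hhK : h ∈ K0 := (hK0 h).2 fun y hy => hh y fun hyΓ => hO (hblk_eq O y hy ▸ (hΔmem y).2 hyΓ)
  have hxO : x • O = O := by
    have := congrArg (fun f : Equiv.Perm Bk => f O) hx
    simp only [MulAction.toPerm_apply] at this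
    rw [this, hσ₁, Equiv.Perm.mul_apply, Equiv.swap_apply_of_ne_of_ne (hne1 O hO) hOQ,
      Equiv.swap_apply_of_ne_of_ne (hne1 O hO) hOP]
  have hxφ : φ x = σ₁ := hx
  have hcS : φ h * σ₁ * (φ h)⁻¹ * σ₁⁻¹ ∈ K0.map φ := by
    refine ⟨h * (x * h⁻¹ * x⁻¹), mul_mem hhK (hK0conj x hxO _ (inv_mem hhK)), ?_⟩
    simp only [map_mul, map_inv, hxφ, mul_assoc]
  have hcO : (φ h * σ₁ * (φ h)⁻¹ * σ₁⁻¹) O = O := by
    rw [← hxφ, ← map_inv, ← map_inv, ← map_mul, ← map_mul, ← map_mul, hφ, mul_smul, mul_smul, mul_smul,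
      inv_smul_eq_iff.2 hxO.symm, inv_smul_eq_iff.2 (hhD O hO).symm, hxO, hhD O hO]
  have hO0 : ∀ g : G, g • O = O → Equiv.Perm.sign (φ g) = 1 → ∀ y, y ∈ (O : Set Ω) → g • y = y := by
    intro g hgO hgs
    have := all_even O (K0.map φ) _ hcyc hcO hcS (fun τ hτs hτO s hs => by
      obtain ⟨k, hk, rfl⟩ := hs
      obtain ⟨t, ht⟩ := halt τ hτs
      refine ⟨t * k * t⁻¹, hK0conj t (by rw [← hφ t O, show φ t = τ from ht, hτO]) k hk, ?_⟩
      simp only [map_mul, map_inv, show φ t = τ from ht]) (φ g) hgs (by rw [hφ, hgO])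
    obtain ⟨k, hk, hkg⟩ := this
    rw [← hφinj hkg]
    exact (hK0 k).1 hk
  have hall : ∀ (C : Bk) (g : G), g • C = C → Equiv.Perm.sign (φ g) = 1 → ∀ y, y ∈ (C : Set Ω) → g • y = y := by
    intro C g hgC hgs y hy
    obtain ⟨z, hz⟩ := hpt O
    obtain ⟨q, hq⟩ := exists_smul_eq G z y
    have hqO : q • O = C := by rw [← hz, ← hblk_smul, hq, hblk_eq C y hy]
    have hzO : z ∈ (O : Set Ω) := hz ▸ hblk_mem z
    have := hO0 (q⁻¹ * g * q) (by rw [mul_smul, mul_smul, hqO, hgC, ← hqO, inv_smul_smul])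
      (by simp only [map_mul, map_inv, hgs, mul_one, inv_mul_cancel]) z hzO
    rw [mul_smul, mul_smul, hq, inv_smul_eq_iff, hq] at this
    exact this
  -- two elements moving points inside blocks
  obtain ⟨y1, hy1, y2, hy2, hy12⟩ := (Set.one_lt_ncard (Set.toFinite _)).1 (show 1 < ((O : Bk) : Set Ω).ncard by
    obtain ⟨g, hg⟩ := hblk O
    rw [← hg, Set.ncard_smul_set]; omega)
  obtain ⟨g, hg⟩ := exists_smul_eq G y1 y2
  have hgO : g • O = O := by rw [← hblk_eq O y1 hy1, ← hblk_smul, hg, hblk_eq O y2 hy2, hblk_eq O y1 hy1]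
  obtain ⟨u', hu', huu'⟩ : ∃ u' ∈ ((blk u : Bk) : Set Ω), u' ≠ u := by
    obtain ⟨g', hg'⟩ := hblk (blk u)
    exact Set.exists_ne_of_one_lt_ncard (by rw [← hg', Set.ncard_smul_set]; omega) u
  obtain ⟨h2, hh2, hh2u⟩ := hJ u u' hu (hin u u' hu (hblk_eq _ _ hu'))
  have ho2 : Equiv.Perm.sign (φ h2) = -1 := by
    rcases Int.units_eq_one_or (Equiv.Perm.sign (φ h2)) with h' | h'
    · have := hall (blk u) h2 (by rw [← hblk_smul, hh2u, hblk_eq _ _ hu']) h' u (hblk_mem u)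
      exact absurd (hh2u.symm.trans this) huu'
    · exact h'
  have ho1 : Equiv.Perm.sign (φ g) = -1 := by
    rcases Int.units_eq_one_or (Equiv.Perm.sign (φ g)) with h' | h'
    · exact absurd ((hall O g hgO h' y1 hy1).symm.trans hg) hy12
    · exact h'
  have hy1Γ : y1 ∉ Γ := fun h' => hO (hblk_eq O y1 hy1 ▸ (hΔmem y1).2 h')
  have h2O : h2 • O = O := by rw [← hblk_eq O y1 hy1]; exact hfixblk h2 hh2 y1 hy1Γ
  have := hall O (g * h2) (by rw [mul_smul, h2O, hgO]) (by rw [map_mul, map_mul, ho1, ho2]; decide) y1 hy1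
  rw [mul_smul, hh2 y1 hy1Γ, hg] at this
  exact hy12 this.symm

end Cfsg.Agent.Marggraff
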